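import Mathlib.LinearAlgebra.Matrix.GeneralLinearGroup.Projective
import Mathlib.FieldTheory.Finite.Basic
import Mathlib.Tactic

/-!
# `SL₂(q) ≅ PGL₂(q)` for even `q`
-/

set_option autoImplicit false

namespace Cfsg.Agent.Lib.PrimeSharp.PGLTwo

open Matrix

variable {F : Type*} [Field F] [Fintype F]

theorem two_eq_zero {a : ℕ} (ha : 1 ≤ a) (hF : Fintype.card F = 2 ^ a) : (2 : F) = 0 := by
  have h : ((2 ^ a : ℕ) : F) = 0 := hF ▸ Nat.cast_card_eq_zero F
  have h2 : (2 : F) ^ a = 0 := by exact_mod_cast h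
  exact (pow_eq_zero_iff (by omega)).1 h2

theorem sq_injective (h2 : (2 : F) = 0) {x y : F} (h : x ^ 2 = y ^ 2) : x = y := by
  have : (x - y) ^ 2 = 0 := by linear_combination h + (y ^ 2 - x * y) * h2
  exact sub_eq_zero.1 ((pow_eq_zero_iff two_ne_zero).1 this)

theorem nonempty_sl_iso_pgl {a : ℕ} (ha : 1 ≤ a) (hF : Fintype.card F = 2 ^ a) :
    Nonempty (SpecialLinearGroup (Fin 2) F ≃* ProjGenLinGroup (Fin 2) F) := by
  have h2 := two_eq_zero ha hF
  refine ⟨MulEquiv.ofBijective SpecialLinearGroup.toPGL ⟨?_, ?_⟩⟩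
  · rw [← MonoidHom.ker_eq_bot_iff, SpecialLinearGroup.toPGL_ker, Subgroup.eq_bot_iff_forall]
    intro g hg
    rw [SpecialLinearGroup.mem_center_iff] at hg
    obtain ⟨r, hr, hrg⟩ := hg
    have h1 : r = 1 := sq_injective h2 (by simpa using hr)
    subst h1
    exact Subtype.ext (by rw [← hrg]; simp)
  · intro g
    have hroot : ∀ r : Fˣ, ∃ k : Fˣ, k ^ Fintype.card (Fin 2) = r := by
      intro r
      have hinj : Function.Injective fun k : Fˣ => k ^ 2 := fun x y h =>
        Units.ext (sq_injective h2 (by simpa using congrArg Units.val h))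
      obtain ⟨k, hk⟩ := (Finite.injective_iff_surjective.1 hinj) r
      exact ⟨k, by simpa using hk⟩
    obtain ⟨x, hx⟩ := ProjectiveSpecialLinearGroup.toPGL_surj_of_roots hroot g
    induction x using QuotientGroup.induction_on with
    | _ x => exact ⟨x, hx⟩

end Cfsg.Agent.Lib.PrimeSharp.PGLTwo
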