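import Cfsg.Agent.Lib.PrimeSharp.Count
import Cfsg.Agent.Lib.Perm.Basic

/-!
# Soluble groups of prime degree have a normal Sylow subgroup
-/

set_option autoImplicit false
set_option linter.unusedSectionVars false

namespace Cfsg.Agent.Lib.PrimeSharp.Solvable

open MulAction
open scoped commutatorElement

variable {α : Type*} [Fintype α] [DecidableEq α] {p : ℕ} [Fact p.Prime]
  {G : Subgroup (Equiv.Perm α)}

theorem sylow_normal (hα : Fintype.card α = p) [IsPretransitive G α] [Group.IsSolvable G]
    (P : Sylow p G) (hP : Nat.card P = p) : (P : Subgroup G).Normal := by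
  classical
  have hp : p.Prime := Fact.out
  obtain ⟨k, hk⟩ := Group.IsSolvable.solvable (G := G)
  have hne : derivedSeries G 0 ≠ ⊥ := by
    rw [derivedSeries_zero]
    intro h
    have := Subgroup.card_subgroup_dvd_card (P : Subgroup G)
    rw [← Subgroup.card_top (G := G), h, Subgroup.card_bot, Nat.dvd_one] at this
    exact hp.ne_one (hP ▸ this)
  obtain ⟨j, hjne, hjbot⟩ : ∃ j, derivedSeries G j ≠ ⊥ ∧ derivedSeries G (j + 1) = ⊥ := by
    by_contra h
    push Not at h
    have : ∀ i, derivedSeries G i ≠ ⊥ := fun i => by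
      induction i with
      | zero => exact hne
      | succ i ih => exact h i ih
    exact this k hk
  set A := derivedSeries G j with hA
  haveI : A.Normal := derivedSeries_normal G j
  have hcomm : ∀ x ∈ A, ∀ y ∈ A, x * y = y * x := by
    intro x hx y hy
    have : ⁅x, y⁆ ∈ derivedSeries G (j + 1) := by
      rw [derivedSeries_succ]
      exact Subgroup.commutator_mem_commutator hx hy
    rw [hjbot, Subgroup.mem_bot, commutatorElement_eq_one_iff_mul_comm] at this
    exact this
  haveI : IsPreprimitive G α := IsPreprimitive.of_prime_card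
    (by rw [Nat.card_eq_fintype_card, hα]; exact hp)
  haveI htrA : IsPretransitive A α := by
    refine IsQuasiPreprimitive.isPretransitive_of_normal ?_
    intro h
    refine hjne ((Subgroup.eq_bot_iff_forall _).2 fun x hx => Subtype.ext (Equiv.ext fun a => ?_))
    have ha : a ∈ fixedPoints A α := h ▸ Set.mem_univ a
    exact ha ⟨x, hx⟩
  obtain ⟨a⟩ : Nonempty α := Fintype.card_pos_iff.1 (hα ▸ hp.pos)
  have hreg : stabilizer A a = ⊥ := by
    rw [Subgroup.eq_bot_iff_forall]
    intro x hx
    refine Subtype.ext (Subtype.ext (Equiv.ext fun b => ?_))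
    obtain ⟨y, rfl⟩ := exists_smul_eq A a b
    have h1 : x • y • a = y • x • a := by
      rw [← mul_smul, ← mul_smul, show x * y = y * x from Subtype.ext (hcomm x x.2 y y.2)]
    rw [mem_stabilizer_iff.1 hx] at h1
    exact h1
  have hcard : Nat.card A = p := by
    rw [Perm.Basic.card_eq_of_regular a hreg, Nat.card_eq_fintype_card, hα]
  have hAP : A ≤ (P : Subgroup G) := by
    obtain ⟨Q, hQ⟩ := (IsPGroup.of_card (n := 1) (by rw [hcard, pow_one]) :
      IsPGroup p A).exists_le_sylow
    obtain ⟨g, hg⟩ := MulAction.exists_smul_eq G Q P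
    intro x hx
    rw [← hg, Sylow.coe_subgroup_smul, Subgroup.mem_pointwise_smul_iff_inv_smul_mem]
    apply hQ
    simpa [MulAut.smul_def] using (inferInstance : A.Normal).conj_mem x hx g⁻¹
  rw [← Subgroup.eq_of_le_of_card_ge hAP (by rw [hP, hcard])]
  infer_instance

end Cfsg.Agent.Lib.PrimeSharp.Solvable
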