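import Mathlib.GroupTheory.Sylow
import Mathlib.GroupTheory.Solvable
import Mathlib.GroupTheory.GroupAction.MultipleTransitivity
import Mathlib.GroupTheory.GroupAction.Primitive
import Mathlib.GroupTheory.GroupAction.Quotient
import Mathlib.Data.Fintype.CardEmbedding
import Mathlib.Tactic

/-!
# Fixed point moments in prime degree

A triply transitive group on `p` points whose Sylow normaliser has order `2p` has no element
other than the identity fixing three points.
-/

set_option autoImplicit false
set_option linter.unusedSectionVars false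

namespace Cfsg.Agent.Lib.PrimeSharp.Count

open MulAction

variable {α : Type*} [Fintype α] [DecidableEq α] {G : Subgroup (Equiv.Perm α)}

/-- The number of fixed points. -/
noncomputable def nfix (g : G) : ℕ := Nat.card (fixedBy α g)

/-- Fixed tuples are tuples of fixed points. -/
def fixedEmbEquiv (k : ℕ) (g : G) :
    fixedBy (Fin k ↪ α) g ≃ (Fin k ↪ fixedBy α g) where
  toFun e := ⟨fun i => ⟨(e : Fin k ↪ α) i, congrArg (fun t : Fin k ↪ α => t i) e.2⟩,
    fun i j h => (e : Fin k ↪ α).injective (congrArg Subtype.val h)⟩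
  invFun e := ⟨⟨fun i => (e i : α), fun i j h => e.injective (Subtype.ext h)⟩,
    Function.Embedding.ext fun i => (e i).2⟩
  left_inv e := Subtype.ext (Function.Embedding.ext fun _ => rfl)
  right_inv e := Function.Embedding.ext fun _ => rfl

theorem sum_descFactorial [Fintype G] (k : ℕ) (hk : k ≤ Fintype.card α)
    (htr : IsMultiplyPretransitive G α k) :
    ∑ g : G, (nfix g).descFactorial k = Nat.card G := by
  classical
  haveI : Nonempty (Fin k ↪ α) := Function.Embedding.nonempty_of_card_le (by simpa using hk)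
  have h := MulAction.sum_card_fixedBy_eq_card_orbits_mul_card_group G (Fin k ↪ α)
  haveI : Subsingleton (Quotient (orbitRel G (Fin k ↪ α))) :=
    (pretransitive_iff_subsingleton_quotient G (Fin k ↪ α)).1 htr
  haveI : Inhabited (Quotient (orbitRel G (Fin k ↪ α))) := ⟨Quotient.mk _ (Classical.arbitrary _)⟩
  haveI : Unique (Quotient (orbitRel G (Fin k ↪ α))) := Unique.mk' _
  rw [Fintype.card_unique, one_mul] at h
  rw [Nat.card_eq_fintype_card, ← h]
  refine Finset.sum_congr rfl fun g _ => ?_
  rw [Fintype.card_congr (fixedEmbEquiv k g), Fintype.card_embedding_eq, Fintype.card_fin, nfix,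
    Nat.card_eq_fintype_card]

theorem nfix_one : nfix (1 : G) = Fintype.card α := by
  rw [nfix, ← Nat.card_eq_fintype_card]
  exact Nat.card_congr (Equiv.subtypeUnivEquiv fun a => one_smul G a)

/-- A non-identity permutation moves at least two points. -/
theorem nfix_add_two_le {g : G} (hg : g ≠ 1) : nfix g + 2 ≤ Fintype.card α := by
  classical
  have hne : (g : Equiv.Perm α) ≠ 1 := fun h => hg (Subtype.ext h)
  have h2 := Equiv.Perm.two_le_card_support_of_ne_one hne
  have hsupp : (g : Equiv.Perm α).support = Finset.univ.filter fun a => a ∉ fixedBy α g := by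
    ext a
    simp [Equiv.Perm.mem_support, Subgroup.smul_def]
  have hsum : (Finset.univ.filter fun a => a ∈ fixedBy α g).card +
      (Finset.univ.filter fun a => a ∉ fixedBy α g).card = Fintype.card α := by
    rw [Finset.card_filter_add_card_filter_not, Finset.card_univ]
  have hf : nfix g = (Finset.univ.filter fun a => a ∈ fixedBy α g).card := by
    rw [nfix, Nat.card_eq_fintype_card, Fintype.card_subtype]
  rw [← hsupp] at hsum
  omega

variable {p : ℕ} [Fact p.Prime]

theorem not_sq_dvd (hα : Fintype.card α = p) : ¬ p * p ∣ Nat.card G := by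
  intro h
  have h1 : p * p ∣ p.factorial := h.trans (by
    rw [← hα, ← Fintype.card_perm, ← Nat.card_eq_fintype_card]
    exact Subgroup.card_subgroup_dvd_card G)
  rw [← Nat.mul_factorial_pred (Fact.out : p.Prime).ne_zero] at h1
  have h2 := Nat.dvd_of_mul_dvd_mul_left (Fact.out : p.Prime).pos h1
  have := (Nat.Prime.dvd_factorial (Fact.out : p.Prime)).1 h2
  have := (Fact.out : p.Prime).two_le
  omega

/-- An element of order `p` generates a transitive group. -/
theorem transitive_of_order (hα : Fintype.card α = p) {g : G} (hg : orderOf g = p) (a b : α) :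
    ∃ k : ℕ, g ^ k • a = b := by
  classical
  have hp : p.Prime := Fact.out
  have hH : IsPGroup p (Subgroup.zpowers g) :=
    IsPGroup.of_card (n := 1) (by rw [Nat.card_zpowers, hg, pow_one])
  have horb : ∀ c : α, g • c ≠ c → orbit (Subgroup.zpowers g) c = Set.univ := by
    intro c hc
    obtain ⟨i, hi⟩ := hH.card_orbit c
    have hle : Nat.card (orbit (Subgroup.zpowers g) c) ≤ p := by
      rw [← hα, ← Nat.card_eq_fintype_card]
      exact Finite.card_subtype_le _
    have hne : Nat.card (orbit (Subgroup.zpowers g) c) ≠ 1 := by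
      intro h1
      rw [Nat.card_eq_one_iff_unique] at h1
      haveI := h1.1
      have := Subsingleton.elim (α := orbit (Subgroup.zpowers g) c)
        ⟨g • c, ⟨⟨g, Subgroup.mem_zpowers g⟩, rfl⟩⟩ ⟨c, mem_orbit_self c⟩
      exact hc (congrArg Subtype.val this)
    have hi1 : p ^ i = p := by
      rcases i with _ | i
      · exact absurd (by rw [hi, pow_zero]) hne
      · refine le_antisymm (hi ▸ hle) (Nat.le_self_pow (by omega) p)
    exact Set.eq_univ_of_univ_subset fun x _ => by
      by_contra hx
      have hlt := Finite.card_subtype_lt (p := fun y => y ∈ orbit (Subgroup.zpowers g) c) (x := x) hx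
      rw [Nat.card_eq_fintype_card (α := α), hα, ← hi1, ← hi] at hlt
      exact absurd hlt (lt_irrefl _)
  obtain ⟨c, hc⟩ : ∃ c, g • c ≠ c := by
    by_contra! hall
    have : g = 1 := Subtype.ext (Equiv.ext hall)
    rw [this, orderOf_one] at hg
    exact hp.ne_one hg.symm
  have hin : ∀ x : α, ∃ k : ℕ, g ^ k • c = x := by
    intro x
    have hx : x ∈ orbit (Subgroup.zpowers g) c := horb c hc ▸ Set.mem_univ x
    obtain ⟨⟨y, hy⟩, hyx⟩ := hx
    obtain ⟨k, hk⟩ := ((isOfFinOrder_of_finite g).mem_powers_iff_mem_zpowers).2 hy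
    exact ⟨k, by rw [← hyx]; exact congrArg (· • c) hk⟩
  obtain ⟨i, rfl⟩ := hin a
  obtain ⟨j, rfl⟩ := hin b
  refine ⟨j + (orderOf g - 1) * i, ?_⟩
  rw [← mul_smul, ← pow_add, add_assoc, ← Nat.succ_mul, Nat.succ_eq_add_one,
    Nat.sub_add_cancel (by rw [hg]; exact hp.one_le), pow_add, pow_mul, pow_orderOf_eq_one,
    one_pow, mul_one]

theorem nfix_eq_zero (hα : Fintype.card α = p) {g : G} (hg : orderOf g = p) : nfix g = 0 := by
  rw [nfix, Nat.card_eq_zero]
  refine Or.inl ⟨fun ⟨a, ha⟩ => ?_⟩
  have ha' : ∀ k : ℕ, g ^ k • a = a := fun k => by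
    induction k with
    | zero => simp
    | succ k ih => rw [pow_succ, mul_smul, ha, ih]
  have : g = 1 := Subtype.ext (Equiv.ext fun b => by
    obtain ⟨k, rfl⟩ := transitive_of_order hα hg a b
    have h1 : g • (g ^ k • a) = g ^ k • a := by rw [ha' k]; exact ha
    exact h1)
  rw [this, orderOf_one] at hg
  exact (Fact.out : p.Prime).ne_one hg.symm

/-- The elements of order `p`. -/
theorem card_order_p [Fintype G] (P : Sylow p G) (hP : Nat.card P = p) :
    (Finset.univ.filter fun g : G => orderOf g = p).card *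
      Nat.card (Subgroup.normalizer ((P : Subgroup G) : Set G)) = (p - 1) * Nat.card G := by
  classical
  have hp : p.Prime := Fact.out
  have hQ : ∀ Q : Sylow p G, Nat.card Q = p := fun Q => by
    rw [Q.card_eq_multiplicity, ← P.card_eq_multiplicity, hP]
  let f : (Σ Q : Sylow p G, {y : (Q : Subgroup G) // y ≠ 1}) → {g : G // orderOf g = p} :=
    fun s => ⟨(s.2.1 : G), by
      rw [Subgroup.orderOf_coe]
      refine orderOf_eq_prime ?_ s.2.2
      have h := pow_card_eq_one' (x := s.2.1)
      rwa [hQ s.1] at h⟩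
  have hgen : ∀ (Q : Sylow p G) (y : {y : (Q : Subgroup G) // y ≠ 1}),
      Subgroup.zpowers (y.1 : G) = (Q : Subgroup G) := fun Q y =>
    Subgroup.eq_of_le_of_card_ge (Subgroup.zpowers_le.2 y.1.2) (by
      rw [Nat.card_zpowers, (f ⟨Q, y⟩).2]
      exact (hQ Q).le)
  have hbij : Function.Bijective f := by
    constructor
    · rintro ⟨Q, y⟩ ⟨R, w⟩ h
      have h' : (y.1 : G) = (w.1 : G) := congrArg Subtype.val h
      obtain rfl : Q = R := Sylow.ext (by rw [← hgen Q y, ← hgen R w, h'])
      exact congrArg (Sigma.mk Q) (Subtype.ext (Subtype.ext h'))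
    · rintro ⟨g, hg⟩
      obtain ⟨Q, hQg⟩ := (IsPGroup.of_card (n := 1) (by rw [Nat.card_zpowers, hg, pow_one]) :
        IsPGroup p (Subgroup.zpowers g)).exists_le_sylow
      refine ⟨⟨Q, ⟨⟨g, hQg (Subgroup.mem_zpowers g)⟩, fun h => ?_⟩⟩, rfl⟩
      have h' : g = 1 := congrArg Subtype.val h
      rw [h', orderOf_one] at hg
      exact hp.ne_one hg.symm
  haveI := Fintype.ofFinite (Sylow p G)
  have hcard := Nat.card_eq_of_bijective f hbij
  rw [Nat.card_sigma, Finset.sum_congr rfl (g := fun _ => p - 1) (fun Q _ => by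
    rw [Nat.card_eq_fintype_card, Fintype.card_subtype_compl, Fintype.card_subtype_eq,
      ← Nat.card_eq_fintype_card]
    rw [show Nat.card (Q : Subgroup G) = p from hQ Q]),
    Finset.sum_const, smul_eq_mul, Finset.card_univ, ← Nat.card_eq_fintype_card,
    Nat.card_eq_fintype_card (α := {g : G // orderOf g = p}), Fintype.card_subtype] at hcard
  have hidx : Nat.card (Sylow p G) =
      (Subgroup.normalizer ((P : Subgroup G) : Set G)).index := Sylow.card_eq_index_normalizer P
  rw [← hcard, hidx, mul_assoc, mul_comm (p - 1), ← mul_assoc, Subgroup.index_mul_card, mul_comm]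

/-- Only the identity fixes three points. -/
theorem three_fixed (hα : Fintype.card α = p) (h3 : IsMultiplyPretransitive G α 3)
    (hp3 : 3 ≤ p) (P : Sylow p G) (hP : Nat.card P = p)
    (hN : Nat.card (Subgroup.normalizer ((P : Subgroup G) : Set G)) = 2 * p) (g : G)
    (hg : 3 ≤ Nat.card (fixedBy α g)) : g = 1 := by
  classical
  haveI := h3
  haveI := Fintype.ofFinite G
  haveI h1 : IsMultiplyPretransitive G α 1 :=
    isMultiplyPretransitive_of_le (n := 3) (by omega) (by simp [hα, hp3])
  haveI h2 : IsMultiplyPretransitive G α 2 :=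
    isMultiplyPretransitive_of_le (n := 3) (by omega) (by simp [hα, hp3])
  have hcast : ∀ f : ℕ, ((f.descFactorial 3 : ℤ) = f * (f - 1) * (f - 2)) ∧
      ((f.descFactorial 2 : ℤ) = f * (f - 1)) ∧ ((f.descFactorial 1 : ℤ) = f) := by
    intro f
    rcases f with _ | _ | f <;> simp [Nat.descFactorial] <;> constructor <;> ring
  have e1 := congrArg (fun n : ℕ => (n : ℤ)) (sum_descFactorial (G := G) (α := α) 1 (by omega) h1)
  have e2 := congrArg (fun n : ℕ => (n : ℤ)) (sum_descFactorial (G := G) (α := α) 2 (by omega) h2)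
  have e3 := congrArg (fun n : ℕ => (n : ℤ)) (sum_descFactorial (G := G) (α := α) 3 (by omega) h3)
  simp only [Nat.cast_sum, (hcast _).1, (hcast _).2.1, (hcast _).2.2] at e1 e2 e3
  set n : ℤ := (Nat.card G : ℤ) with hn
  set B : G → ℤ := fun x => ((nfix x : ℤ) - 1) * ((nfix x : ℤ) - 2) with hB
  have eB : ∑ x, B x = n := by
    rw [Finset.sum_congr rfl (g := fun x => (nfix x : ℤ) * ((nfix x : ℤ) - 1) - 2 * (nfix x : ℤ) + 2)
      (fun x _ => by simp only [hB]; ring), Finset.sum_add_distrib, Finset.sum_sub_distrib,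
      ← Finset.mul_sum, e1, e2, Finset.sum_const, Finset.card_univ, nsmul_eq_mul,
      ← Nat.card_eq_fintype_card, ← hn]
    ring
  set S := Finset.univ.filter fun x : G => orderOf x = p with hS
  set T := (Finset.univ \ S).erase 1 with hT
  have h1S : (1 : G) ∈ Finset.univ \ S := by
    simp [hS, (Fact.out : p.Prime).ne_one.symm]
  have hsplit : ∀ F : G → ℤ, ∑ x, F x = ∑ x ∈ S, F x + (F 1 + ∑ x ∈ T, F x) := fun F => by
    rw [hT, Finset.add_sum_erase _ _ h1S, add_comm, Finset.sum_sdiff (Finset.subset_univ S)]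
  have hS0 : ∀ x ∈ S, nfix x = 0 := fun x hx =>
    nfix_eq_zero hα (Finset.mem_filter.1 hx).2
  have hSc : (S.card : ℤ) * (2 * p) = ((p : ℤ) - 1) * n := by
    have h := congrArg (fun k : ℕ => (k : ℤ)) (card_order_p P hP)
    simp only [hN, ← hS, Nat.cast_mul, Nat.cast_sub (Fact.out : p.Prime).one_le] at h
    push_cast at h
    exact h
  have hn1 : (nfix (1 : G) : ℤ) = p := by rw [nfix_one, hα]
  rw [hsplit, Finset.sum_eq_zero (fun x hx => by rw [hS0 x hx]; ring), hn1] at e3
  rw [hsplit, Finset.sum_congr rfl (g := fun _ => (2 : ℤ))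
    (fun x hx => by simp [hB, hS0 x hx]), Finset.sum_const, nsmul_eq_mul] at eB
  simp only [hB, hn1] at eB
  have hle : ∑ x ∈ T, (nfix x : ℤ) * ((nfix x : ℤ) - 1) * ((nfix x : ℤ) - 2) ≤
      ∑ x ∈ T, ((p : ℤ) - 2) * B x := by
    refine Finset.sum_le_sum fun x hx => ?_
    have h := nfix_add_two_le (Finset.ne_of_mem_erase hx)
    rw [hα] at h
    rw [mul_assoc]
    refine mul_le_mul_of_nonneg_right (by omega) ?_
    rcases Nat.lt_or_ge (nfix x) 2 with h' | h'
    · interval_cases (nfix x) <;> norm_num
    · exact mul_nonneg (by omega) (by omega)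
  rw [← Finset.mul_sum] at hle
  simp only [hB] at hle
  have hB0 : ∀ x : G, 0 ≤ B x := fun x => by
    simp only [hB]
    rcases Nat.lt_or_ge (nfix x) 2 with h' | h'
    · interval_cases (nfix x) <;> norm_num
    · exact mul_nonneg (by omega) (by omega)
  have hzero : ∑ x ∈ T, B x = 0 := by
    refine le_antisymm ?_ (Finset.sum_nonneg fun x _ => hB0 x)
    have := Finset.sum_nonneg (s := T) (f := B) fun x _ => hB0 x
    simp only [hB] at this ⊢
    nlinarith
  by_contra hg1
  have hgT : g ∈ T := Finset.mem_erase.2 ⟨hg1, Finset.mem_sdiff.2 ⟨Finset.mem_univ g, fun h => by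
    have := hS0 g h
    rw [nfix] at this
    omega⟩⟩
  have := (Finset.sum_eq_zero_iff_of_nonneg fun x _ => hB0 x).1 hzero g hgT
  simp only [hB, mul_eq_zero] at this
  change (3 : ℕ) ≤ nfix g at hg
  omega

end Cfsg.Agent.Lib.PrimeSharp.Count
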